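import Mathlib

set_option autoImplicit false
set_option backward.isDefEq.respectTransparency false
universe u
open CategoryTheory CategoryTheory.Limits AlgebraicGeometry

attribute [-instance] CategoryTheory.catToReflQuiver

namespace Groth.Agent.NMPSigma

/-- The Néron mapping property of `π` along `j`, in terms of the morphisms of schemes. -/
def MapProp {N S V : Scheme.{u}} (π : N ⟶ S) (j : V ⟶ S) : Prop :=
  ∀ (Y : Scheme.{u}) (y : Y ⟶ S), Smooth y → ∀ h : pullback y j ⟶ N,
    h ≫ π = pullback.fst y j ≫ y → ∃! g : Y ⟶ N, g ≫ π = y ∧ pullback.fst y j ≫ g = h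

theorem pullback_map_left {S V : Scheme.{u}} (j : V ⟶ S) {Y N : Over S} (g : Y ⟶ N) :
    ((Over.pullback j).map g).left ≫ pullback.fst N.hom j = pullback.fst Y.hom j ≫ g.left :=
  pullback.lift_fst _ _ _

theorem mapProp_iff {N S V : Scheme.{u}} (π : N ⟶ S) (j : V ⟶ S) :
    (∀ Y : Over S, Smooth Y.hom →
        Function.Bijective (fun g : Y ⟶ Over.mk π => (Over.pullback j).map g)) ↔ MapProp π j := by
  constructor
  · intro H Y y hy h hh
    let a : (Over.pullback j).obj (Over.mk y) ⟶ (Over.pullback j).obj (Over.mk π) :=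
      Over.homMk (pullback.lift h (pullback.snd y j) (by show h ≫ π = _; rw [hh, pullback.condition]))
        (pullback.lift_snd _ _ _)
    obtain ⟨g, hg⟩ := (H (Over.mk y) hy).2 a
    have key : pullback.fst y j ≫ g.left = h := by
      have h1 := pullback_map_left j g
      rw [show (Over.pullback j).map g = a from hg] at h1
      exact h1.symm.trans (pullback.lift_fst _ _ _)
    refine ⟨g.left, ⟨Over.w g, key⟩, fun g' hg' => ?_⟩
    have h2 : (Over.homMk g' hg'.1 : Over.mk y ⟶ Over.mk π) = g := (H (Over.mk y) hy).1 (by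
      show (Over.pullback j).map _ = (Over.pullback j).map g
      apply Over.OverMorphism.ext
      apply pullback.hom_ext
      · rw [pullback_map_left, pullback_map_left]
        exact hg'.2.trans key.symm
      · exact (pullback.lift_snd _ _ _).trans (pullback.lift_snd _ _ _).symm)
    exact congrArg CommaMorphism.left h2
  · intro H Y hY
    refine ⟨fun g g' hgg' => ?_, fun a => ?_⟩
    · obtain ⟨g₀, -, hu⟩ := H Y.left Y.hom hY (pullback.fst Y.hom j ≫ g.left)
        (by rw [Category.assoc]; exact congrArg (pullback.fst Y.hom j ≫ ·) (Over.w g))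
      apply Over.OverMorphism.ext
      refine (hu g.left ⟨Over.w g, rfl⟩).trans (hu g'.left ⟨Over.w g', ?_⟩).symm
      rw [← pullback_map_left, ← pullback_map_left]
      exact congrArg (fun m : (Over.pullback j).obj Y ⟶ (Over.pullback j).obj (Over.mk π) =>
        m.left ≫ pullback.fst π j) hgg'.symm
    · obtain ⟨g₀, ⟨hg1, hg2⟩, -⟩ := H Y.left Y.hom hY (a.left ≫ pullback.fst π j) (by
        have hw : a.left ≫ pullback.snd π j = pullback.snd Y.hom j := Over.w a
        rw [Category.assoc, pullback.condition, ← Category.assoc, hw, pullback.condition])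
      refine ⟨Over.homMk g₀ hg1, ?_⟩
      apply Over.OverMorphism.ext
      apply pullback.hom_ext
      · rw [pullback_map_left]
        exact hg2
      · exact (pullback.lift_snd _ _ _).trans (Over.w a).symm

/-- Pulling back along an open immersion of bases. -/
theorem mapProp_of_isPullback {N S V N' S' V' : Scheme.{u}} {π : N ⟶ S} {j : V ⟶ S}
    {π' : N' ⟶ S'} {j' : V' ⟶ S'} {ι : S' ⟶ S} {ιN : N' ⟶ N} {ιV : V' ⟶ V} [IsOpenImmersion ι]
    (sqN : IsPullback ιN π' π ι) (sqV : IsPullback ιV j' j ι) (H : MapProp π j) : MapProp π' j' := by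
  intro Y y hy h hh
  let sq := (IsPullback.of_hasPullback y j').paste_vert sqV.flip
  let e : pullback (y ≫ ι) j ≅ pullback y j' :=
    sq.isoPullback.symm
  have he : e.hom ≫ pullback.fst y j' = pullback.fst (y ≫ ι) j := sq.isoPullback_inv_fst
  have hsm : Smooth (y ≫ ι) := inferInstance
  obtain ⟨g, ⟨hg1, hg2⟩, hu⟩ := H Y (y ≫ ι) hsm (e.hom ≫ h ≫ ιN) (by
    rw [Category.assoc, Category.assoc, sqN.w, reassoc_of% hh, reassoc_of% he])
  refine ⟨sqN.lift g y hg1, ⟨sqN.lift_snd _ _ _, ?_⟩, fun g' hg' => ?_⟩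
  · rw [← cancel_epi e.hom, reassoc_of% he]
    refine sqN.hom_ext ?_ ?_
    · simp only [Category.assoc, sqN.lift_fst, hg2]
    · simp only [Category.assoc, sqN.lift_snd, hh, reassoc_of% he]
  · refine sqN.hom_ext ?_ ?_
    · rw [sqN.lift_fst]
      refine hu (g' ≫ ιN) ⟨by rw [Category.assoc, sqN.w, reassoc_of% hg'.1], ?_⟩
      rw [← he, Category.assoc, reassoc_of% hg'.2]
    · rw [sqN.lift_snd, hg'.1]

theorem isPullback_sigmaMap {I : Type u} (B N : I → Scheme.{u}) (f : ∀ i, N i ⟶ B i) (i : I) :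
    IsPullback (Sigma.ι N i) (f i) (Limits.Sigma.map f) (Sigma.ι B i) := by
  refine (IsOpenImmersion.isPullback (f i) (Sigma.ι N i) (Sigma.ι B i) (Limits.Sigma.map f)
    (Sigma.ι_map f i) ?_).flip
  apply le_antisymm
  · rintro x ⟨b, hb⟩
    obtain ⟨⟨j, n⟩, rfl⟩ := (sigmaMk N).surjective x
    rw [sigmaMk_mk] at hb ⊢
    have h1 : Sigma.ι B i b = Sigma.ι B j (f j n) := by
      rw [hb, ← Scheme.Hom.comp_apply, Sigma.ι_map, Scheme.Hom.comp_apply]
    by_cases hij : i = j
    · subst hij
      exact ⟨n, rfl⟩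
    · have h2 : Sigma.ι B i b ∈ (Sigma.ι B i).opensRange ⊓ (Sigma.ι B j).opensRange :=
        ⟨⟨b, rfl⟩, h1 ▸ ⟨_, rfl⟩⟩
      rw [disjoint_iff.mp (disjoint_opensRange_sigmaι B i j hij)] at h2
      exact h2.elim
  · rintro _ ⟨n, rfl⟩
    exact ⟨f i n, by rw [← Scheme.Hom.comp_apply, ← Sigma.ι_map f i]; rfl⟩

/-- The mapping property is local on a disjoint decomposition of the base. -/
theorem mapProp_sigma {I : Type u} (B N : I → Scheme.{u}) (f : ∀ i, N i ⟶ B i) {V : Scheme.{u}}
    (j : V ⟶ ∐ B) (V' : I → Scheme.{u}) (j' : ∀ i, V' i ⟶ B i) (ιV : ∀ i, V' i ⟶ V)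
    (sqV : ∀ i, IsPullback (ιV i) (j' i) j (Sigma.ι B i))
    (H : ∀ i, MapProp (f i) (j' i)) : MapProp (Limits.Sigma.map f) j := by
  intro Y y hy h hh
  let 𝒞 : (∐ B).OpenCover := (sigmaOpenCover B).copy I B (Sigma.ι B) (Equiv.refl _) (fun _ => Iso.refl _) (fun _ => (Category.id_comp _).symm)
  let 𝒰 := 𝒞.pullback₁ y
  let Yi : I → Scheme.{u} := fun i => pullback y (Sigma.ι B i)
  let yi : ∀ i, Yi i ⟶ B i := fun i => pullback.snd y (Sigma.ι B i)
  let wi : ∀ i, pullback (yi i) (j' i) ⟶ pullback y j := fun i =>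
    pullback.lift (pullback.fst _ _ ≫ pullback.fst y (Sigma.ι B i)) (pullback.snd _ _ ≫ ιV i) (by
      rw [Category.assoc, Category.assoc, pullback.condition, (sqV i).w, pullback.condition_assoc])
  have hhi : ∀ i, (wi i ≫ h) ≫ Limits.Sigma.map f = (pullback.fst _ _ ≫ yi i) ≫ Sigma.ι B i := fun i => by
    rw [Category.assoc, hh, ← Category.assoc, pullback.lift_fst, Category.assoc, pullback.condition,
      Category.assoc]
  choose gi hgi hui using fun i => H i (Yi i) (yi i) inferInstance
    ((isPullback_sigmaMap B N f i).lift (wi i ≫ h) (pullback.fst _ _ ≫ yi i) (hhi i))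
    (IsPullback.lift_snd _ _ _ _)
  let G : ∀ i, Yi i ⟶ ∐ N := fun i => gi i ≫ Sigma.ι N i
  have hcompat : ∀ a b : I, pullback.fst (pullback.fst y (Sigma.ι B a)) (pullback.fst y (Sigma.ι B b)) ≫ G a =
      pullback.snd _ _ ≫ G b := fun a b => by
    by_cases hab : a = b
    · subst hab
      rw [(cancel_mono (pullback.fst y (Sigma.ι B a))).1 pullback.condition]
    · haveI : IsEmpty ↑(pullback (pullback.fst y (Sigma.ι B a)) (pullback.fst y (Sigma.ι B b))) :=
        isEmpty_of_commSq_sigmaι_of_ne (g := B) (a := pullback.fst _ _ ≫ yi a) (b := pullback.snd _ _ ≫ yi b)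
          ⟨by simp only [yi, Category.assoc, ← pullback.condition]; rw [pullback.condition_assoc]⟩ hab
      exact isInitialOfIsEmpty.hom_ext _ _
  let g : Y ⟶ ∐ N := Scheme.Cover.glueMorphisms 𝒰 G hcompat
  have hgl : ∀ i, pullback.fst y (Sigma.ι B i) ≫ g = G i := fun i => by
    have h0 := Scheme.Cover.ι_glueMorphisms 𝒰 G hcompat i
    have h1 : 𝒰.f i = pullback.fst y (Sigma.ι B i) := by rfl
    rw [← h1]
    exact h0
  have hres : ∀ (i : I) (g' : Y ⟶ ∐ N), g' ≫ Limits.Sigma.map f = y → pullback.fst y j ≫ g' = h →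
      pullback.fst y (Sigma.ι B i) ≫ g' = G i := by
    intro i g' h1 h2
    let sq := isPullback_sigmaMap B N f i
    have h3 := hui i (sq.lift (pullback.fst y (Sigma.ι B i) ≫ g') (yi i)
      (by rw [Category.assoc, h1]; exact pullback.condition)) ⟨sq.lift_snd _ _ _, by
        refine sq.hom_ext ?_ ?_
        · rw [Category.assoc, sq.lift_fst, sq.lift_fst, ← h2, ← Category.assoc, ← Category.assoc,
            pullback.lift_fst]
        · rw [Category.assoc, sq.lift_snd, sq.lift_snd]⟩
    show _ = gi i ≫ Sigma.ι N i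
    rw [← h3, sq.lift_fst]
  refine ⟨g, ⟨?_, ?_⟩, fun g' hg' => Scheme.Cover.hom_ext 𝒰 _ _ fun i =>
    (hres i g' hg'.1 hg'.2).trans (hgl i).symm⟩
  · refine Scheme.Cover.hom_ext 𝒰 _ _ fun i => ?_
    show pullback.fst y (Sigma.ι B i) ≫ g ≫ Limits.Sigma.map f = pullback.fst y (Sigma.ι B i) ≫ y
    rw [reassoc_of% hgl i, Category.assoc, Sigma.ι_map, reassoc_of% (hgi i).1, pullback.condition]
  · refine Scheme.Cover.hom_ext (𝒞.pullback₁ (pullback.fst y j ≫ y)) _ _ fun i => ?_
    show pullback.fst (pullback.fst y j ≫ y) (Sigma.ι B i) ≫ _ = pullback.fst _ _ ≫ h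
    let Z := pullback (pullback.fst y j ≫ y) (Sigma.ι B i)
    let t : Z ⟶ pullback y j := pullback.fst _ _
    let b : Z ⟶ B i := pullback.snd _ _
    have hb : (t ≫ pullback.fst y j) ≫ y = b ≫ Sigma.ι B i := by
      rw [Category.assoc]; exact pullback.condition
    let m : Z ⟶ pullback (yi i) (j' i) :=
      pullback.lift (pullback.lift (t ≫ pullback.fst y j) b hb)
        ((sqV i).lift (t ≫ pullback.snd y j) b (by
          rw [Category.assoc, ← pullback.condition, ← Category.assoc, hb]))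
        (by rw [pullback.lift_snd, IsPullback.lift_snd])
    have hm : m ≫ wi i = t := by
      apply pullback.hom_ext
      · simp [m, wi]
      · simp [m, wi]
    calc t ≫ pullback.fst y j ≫ g = m ≫ pullback.fst (yi i) (j' i) ≫ G i := by
          rw [← hgl i, ← Category.assoc m, pullback.lift_fst, ← Category.assoc, ← Category.assoc,
            pullback.lift_fst]
      _ = m ≫ wi i ≫ h := by
          show m ≫ pullback.fst (yi i) (j' i) ≫ gi i ≫ Sigma.ι N i = _
          rw [reassoc_of% (hgi i).2, IsPullback.lift_fst]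
      _ = t ≫ h := by rw [reassoc_of% hm]

end Groth.Agent.NMPSigma
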